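import Groth.Prelude.Def_SGA1
import Mathlib.AlgebraicGeometry.Morphisms.Proper
import Mathlib.AlgebraicGeometry.PullbackCarrier
import Mathlib.AlgebraicGeometry.Limits

/-!
# Finite families of finite morphisms
-/

set_option autoImplicit false
set_option backward.isDefEq.respectTransparency.types false
universe u

open CategoryTheory CategoryTheory.Limits AlgebraicGeometry TopologicalSpace

namespace Groth.Agent.HTop25

variable {ι : Type u} [Finite ι] {Y : ι → Scheme.{u}} {X : Scheme.{u}} (f : ∀ i, Y i ⟶ X)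

omit [Finite ι] in
theorem exists_sigma_ι (w : ↑(∐ Y : Scheme.{u})) : ∃ i y, Sigma.ι Y i y = w :=
  ⟨((sigmaMk Y).symm w).1, ((sigmaMk Y).symm w).2,
    (sigmaMk_mk Y _ _).symm.trans ((sigmaMk Y).apply_symm_apply w)⟩

omit [Finite ι] in
theorem range_sigmaDesc : Set.range (Sigma.desc f) = ⋃ i, Set.range (f i) := by
  ext x
  constructor
  · rintro ⟨w, rfl⟩
    obtain ⟨i, y, rfl⟩ := exists_sigma_ι (Y := Y) w
    exact Set.mem_iUnion.2 ⟨i, y, by rw [← Scheme.Hom.comp_apply, Sigma.ι_desc]⟩
  · intro hx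
    obtain ⟨i, y, rfl⟩ := Set.mem_iUnion.1 hx
    exact ⟨Sigma.ι Y i y, by rw [← Scheme.Hom.comp_apply, Sigma.ι_desc]⟩

theorem isAffineHom_sigmaDesc [∀ i, IsAffineHom (f i)] : IsAffineHom (Sigma.desc f) := by
  refine ⟨fun U hU => ?_⟩
  have e : (Sigma.desc f) ⁻¹ᵁ U = ⨆ i, Sigma.ι Y i ''ᵁ (f i ⁻¹ᵁ U) := by
    ext w
    simp only [Opens.coe_iSup, Set.mem_iUnion, SetLike.mem_coe]
    constructor
    · intro hw
      obtain ⟨i, y, rfl⟩ := exists_sigma_ι (Y := Y) w
      refine ⟨i, y, ?_, rfl⟩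
      show f i y ∈ U
      rw [← Sigma.ι_desc f i]
      exact hw
    · rintro ⟨i, y, hy, rfl⟩
      show Sigma.desc f (Sigma.ι Y i y) ∈ U
      rw [← Scheme.Hom.comp_apply, Sigma.ι_desc]
      exact hy
  rw [e]
  refine IsAffineOpen.iSup_of_disjoint (fun i => (hU.preimage (f i)).image_of_isOpenImmersion _) ?_
  intro i j hij
  exact ((disjoint_opensRange_sigmaι Y i j hij).mono (Scheme.Hom.image_le_opensRange _ _) (Scheme.Hom.image_le_opensRange _ _))

theorem isFinite_sigmaDesc [∀ i, IsFinite (f i)] : IsFinite (Sigma.desc f) := by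
  haveI := isAffineHom_sigmaDesc f
  haveI : LocallyOfFiniteType (Sigma.desc f) := IsZariskiLocalAtSource.sigmaDesc fun i => inferInstance
  haveI : UniversallyClosed (Sigma.desc f) := by
    refine ⟨fun W T i₁ i₂ π h C hC => ?_⟩
    let a : ∀ i, pullback (f i) i₂ ⟶ W := fun i =>
      h.lift (pullback.snd (f i) i₂) (pullback.fst (f i) i₂ ≫ Sigma.ι Y i)
        (by rw [Category.assoc, Sigma.ι_desc, pullback.condition])
    have ha : ∀ i, a i ≫ π = pullback.snd (f i) i₂ := fun i => h.lift_fst _ _ _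
    have : π '' C = ⋃ i, pullback.snd (f i) i₂ '' (a i ⁻¹' C) := by
      ext t
      constructor
      · rintro ⟨w, hw, rfl⟩
        obtain ⟨i, y, hy⟩ := exists_sigma_ι (Y := Y) (i₁ w)
        -- move to the component
        have hπ : i₂ (π w) = f i y := by
          rw [← Scheme.Hom.comp_apply, h.w, Scheme.Hom.comp_apply, ← hy, ← Scheme.Hom.comp_apply,
            Sigma.ι_desc]
        have sq : IsPullback (a i) (pullback.fst (f i) i₂) i₁ (Sigma.ι Y i) :=
          IsPullback.of_right (h₁₂ := π) (v₁₃ := i₂) (h₂₂ := Sigma.desc f)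
            (by rw [ha, Sigma.ι_desc]; exact (IsPullback.of_hasPullback (f i) i₂).flip)
            (h.lift_snd _ _ _) h
        obtain ⟨p, -, hp₂⟩ := Scheme.exists_preimage_of_isPullback sq.flip y w hy
        refine Set.mem_iUnion.2 ⟨i, p, ?_, ?_⟩
        · show a i p ∈ C
          exact hp₂ ▸ hw
        · rw [← ha, Scheme.Hom.comp_apply, hp₂]
      · intro ht
        obtain ⟨i, p, hp, rfl⟩ := Set.mem_iUnion.1 ht
        exact ⟨a i p, hp, by rw [← Scheme.Hom.comp_apply, ha]⟩
    rw [this]
    exact isClosed_iUnion_of_finite fun i =>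
      (pullback.snd (f i) i₂).isClosedMap _ (hC.preimage (a i).continuous)
  haveI : IsProper (Sigma.desc f) := {}
  exact IsFinite.iff_isProper_and_isAffineHom.2 ⟨inferInstance, inferInstance⟩

theorem univSubmersive_of_universallyClosed {A B : Scheme.{u}} (q : A ⟶ B) [UniversallyClosed q]
    [Surjective q] : SGA1.UnivSubmersive q := by
  intro W T i₁ i₂ π h
  haveI : UniversallyClosed π := MorphismProperty.of_isPullback h.flip ‹UniversallyClosed q›
  haveI : Surjective π := MorphismProperty.of_isPullback h.flip ‹Surjective q›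
  exact π.isClosedMap.isQuotientMap π.continuous π.surjective

end Groth.Agent.HTop25
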